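/-
Claim (N) of S2858 (K-S 10.3.11): in a counterexample with `|T|` minimal, `Q₁ ⊓ Q₂` is
normal in neither `Pᵢ`.  Definitions and the exact statements of the packages.

Setting: `H = P₁` (the side where `D` is assumed normal), `K = P₂`, `Q = O₂(H)`, `R = O₂(K)`,
`D = Q ⊓ R` (written out).  `L ≤ H` is the subgroup of index two with Sylow 2-subgroup `R`.
An element `g ∈ K` with `g ∉ T`, `g * g ∈ T` swaps `L` and `cj g L` and fixes `R`.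
-/
import Mathlib
import Cfsg.Prelude.Def_Amalgam
import Cfsg.Prelude.Def_Transfer
import Cfsg.Agent.Lib.Helper71.Sym.BDefs
import Cfsg.Agent.Lib.Helper59.Amal.SubQuot

set_option autoImplicit false

namespace Cfsg.Agent.Lib.Helper12.NClaim

open Cfsg.Agent.Lib.Helper71.Sym

universe u

variable {G : Type u} [Group G]

/-- `Ω₁(Z(D))`: the central elements of `D` of order at most two. -/
def OZ (D : Subgroup G) : Subgroup G where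
  carrier := {v | v ∈ D ∧ (∀ d ∈ D, d * v = v * d) ∧ v * v = 1}
  mul_mem' := by
    rintro a b ⟨ha, hac, ha2⟩ ⟨hb, hbc, hb2⟩
    refine ⟨D.mul_mem ha hb, ?_, ?_⟩
    · intro d hd
      rw [← mul_assoc, hac d hd, mul_assoc, hbc d hd, ← mul_assoc]
    · have hab : a * b = b * a := hbc a ha
      calc a * b * (a * b) = a * (b * a) * b := by group
        _ = a * (a * b) * b := by rw [← hab]
        _ = (a * a) * (b * b) := by group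
        _ = 1 := by rw [ha2, hb2, one_mul]
  one_mem' := ⟨D.one_mem, fun d _ => by simp, by simp⟩
  inv_mem' := by
    rintro a ⟨ha, hac, ha2⟩
    have hinv : a⁻¹ = a := inv_eq_of_mul_eq_one_right ha2
    rw [hinv]; exact ⟨ha, hac, ha2⟩

theorem mem_OZ {D : Subgroup G} {v : G} :
    v ∈ OZ D ↔ v ∈ D ∧ (∀ d ∈ D, d * v = v * d) ∧ v * v = 1 := Iff.rfl

theorem OZ_le (D : Subgroup G) : OZ D ≤ D := fun _ hv => hv.1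

/-- Setting of claim (N): two `S₃`-sides with common `T`, core-free, `Q ⊓ R` normal in `H`. -/
structure NSet (H K T Q R : Subgroup G) : Prop where
  hH : LAmal H T Q
  hK : LAmal K T R
  hcore : ∀ N : Subgroup G, N ≤ T → (∀ h ∈ H, ∀ n ∈ N, h * n * h⁻¹ ∈ N) →
    (∀ k ∈ K, ∀ n ∈ N, k * n * k⁻¹ ∈ N) → N = ⊥
  hD : ∀ h ∈ H, ∀ d ∈ Q ⊓ R, h * d * h⁻¹ ∈ Q ⊓ R

/-- First consequences. -/
structure NBasic (K T Q R : Subgroup G) : Prop where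
  hQR : Q ≠ R
  cardR : Nat.card ↥R = 2 * Nat.card ↥(Q ⊓ R)
  cardQ : Nat.card ↥Q = 2 * Nat.card ↥(Q ⊓ R)
  ne_bot : Q ⊓ R ≠ ⊥
  conj_ne : ∀ g ∈ K, g ∉ T → cj g (Q ⊓ R) ≠ Q ⊓ R

/-- The subgroup `L` of index two in `H` with Sylow 2-subgroup `R` (helper34's `exists_L`). -/
structure LData (H T Q R L : Subgroup G) : Prop where
  hRL : R ≤ L
  hLH : L ≤ H
  hLn : ∀ h ∈ H, ∀ l ∈ L, h * l * h⁻¹ ∈ L
  hcard : Nat.card ↥L = 3 * Nat.card ↥R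
  hLT : L ⊓ T = R
  hLQ : L ⊓ Q = Q ⊓ R
  hCD : ∀ g ∈ L, (∀ d ∈ Q ⊓ R, g * d = d * g) → g ∈ Q ⊓ R
  hRn : ∃ l ∈ L, ∃ s ∈ R, l * s * l⁻¹ ∉ R
  hprod : ∀ p ∈ H, ∃ l ∈ L, ∃ q ∈ Q, p = l * q
  hO2 : ∀ N : Subgroup G, N ≤ L → IsPGroup 2 ↥N → (∀ l ∈ L, ∀ n ∈ N, l * n * l⁻¹ ∈ N) →
    N ≤ Q ⊓ R

/-- The largest subgroup of `R` normalized by `L₁` and `L₂`. -/
def pairCore (L₁ L₂ R : Subgroup G) : Subgroup G :=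
  sSup {N : Subgroup G | N ≤ R ∧ L₁ ≤ Subgroup.normalizer (N : Set G) ∧
    L₂ ≤ Subgroup.normalizer (N : Set G)}

/-- The `K`-free consequences of the induction hypothesis for the pair `(L, L')`,
`D = O₂(L)`, `D' = O₂(L')`, common Sylow 2-subgroup `R`. -/
structure PairFacts (L R D D' : Subgroup G) : Prop where
  ea : ∀ B : Subgroup G, B ≤ R → (∀ b ∈ B, b * b = 1) → B ≤ D ∨ B ≤ D'
  i2 : ∀ y ∈ L, cj y R ≠ R → ∀ h ∈ L, (D ⊓ D') ⊓ cj y (D ⊓ D') ≤ cj h (D ⊓ D')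
  i3 : ¬ (∀ l ∈ L, ∀ m ∈ D ⊓ D', l * m * l⁻¹ ∈ D ⊓ D')

/-! ### Package statements (each is a `Prop`; deliver `theorem pkgX : PkgX.{u}`) -/

/-- (NB) basics. -/
def PkgNB : Prop := ∀ {G : Type u} [Group G] (H K T Q R : Subgroup G),
  NSet H K T Q R → NBasic K T Q R

/-- (N3C) the three cosets of `T` in `H`. -/
def PkgN3C : Prop := ∀ {G : Type u} [Group G] (H T Q : Subgroup G), LAmal H T Q →
  ∀ g ∈ H, g ∉ T → ∀ x ∈ T, x ∉ Q → ∀ k ∈ H, k ∈ T ∨ g⁻¹ * k ∈ T ∨ (x * g)⁻¹ * k ∈ T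

/-- (NL) existence of `L` (helper34's `exists_L`, note 3443). -/
def PkgNL : Prop := ∀ {G : Type u} [Group G] (P T Q S : Subgroup G), LAmal P T Q → S ≤ T →
  (∀ t ∈ T, ∀ s ∈ S, t * s * t⁻¹ ∈ S) → Nat.card ↥T = 2 * Nat.card ↥S → S ≠ Q →
  (∀ h ∈ P, ∀ d ∈ Q ⊓ S, h * d * h⁻¹ ∈ Q ⊓ S) → ∃ L : Subgroup G, LData P T Q S L

/-- (NLA) `(L, R, Q ⊓ R)` is again an `S₃`-side. -/
def PkgNLA : Prop := ∀ {G : Type u} [Group G] (H K T Q R L : Subgroup G),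
  NSet H K T Q R → NBasic K T Q R → LData H T Q R L → LAmal L R (Q ⊓ R)

/-- (NF) back to the frozen form of the hypotheses. -/
def PkgNF : Prop := ∀ {G : Type u} [Group G] (L S D : Subgroup G), LAmal L S D →
  Cfsg.pCoreOf 2 L = D ∧ (∃ Syl : Sylow 2 ↥L, (Syl : Subgroup ↥L) = S.subgroupOf L) ∧
    Nonempty (↥L ⧸ Cfsg.pCore 2 ↥L ≃* Equiv.Perm (Fin 3))

/-- (NCJ) conjugation invariance of `LAmal`. -/
def PkgNCJ : Prop := ∀ {G : Type u} [Group G] (H T Q : Subgroup G), LAmal H T Q →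
  ∀ g : G, LAmal (cj g H) (cj g T) (cj g Q)

/-- (NO2) `D = O₂(L)`: an `L`-invariant subgroup of `R` lies in `D`. -/
def PkgNO2 : Prop := ∀ {G : Type u} [Group G] (L R D : Subgroup G), LAmal L R D →
  ∀ N : Subgroup G, N ≤ R → (∀ l ∈ L, ∀ n ∈ N, l * n * l⁻¹ ∈ N) → N ≤ D

/-- (NC) `(h1)` modulo `Kc`. -/
def PkgNC : Prop := ∀ {G : Type u} [Group G] (H K T Q R L : Subgroup G),
  NSet H K T Q R → NBasic K T Q R → LData H T Q R L → LAmal L R (Q ⊓ R) →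
  ∀ g ∈ K, g ∉ T → ∀ Kc : Subgroup G, Kc ≤ cj g (Q ⊓ R) →
    (∀ l ∈ L, ∀ k ∈ Kc, l * k * l⁻¹ ∈ Kc) →
    ∀ y ∈ L, (∀ d ∈ Q ⊓ R, y * d * y⁻¹ * d⁻¹ ∈ Kc) → y ∈ Q ⊓ R

/-- (NZ) `(h5)` modulo the pair core. -/
def PkgNZ : Prop := ∀ {G : Type u} [Group G] (H K T Q R L : Subgroup G),
  NSet H K T Q R → NBasic K T Q R → LData H T Q R L → LAmal L R (Q ⊓ R) →
  ∀ g ∈ K, g ∉ T → g * g ∈ T → ∀ P ∈ ({L, cj g L} : Set (Subgroup G)),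
    ∃ z ∈ R, z * z ∈ pairCore L (cj g L) R ∧
      (∀ s ∈ R, z * s * z⁻¹ * s⁻¹ ∈ pairCore L (cj g L) R) ∧
      ∃ y ∈ P, y * z * y⁻¹ * z⁻¹ ∉ pairCore L (cj g L) R

/-- (NP) the pair consequences (I1)-(I3). -/
def PkgNP : Prop := ∀ {G : Type u} [Group G] (L R D Kc : Subgroup G) (g : G),
  LAmal L R D → cj g R = R → cj g (cj g L) = L → cj g (cj g D) = D → cj g D ≠ D →
  Kc ≤ D → Kc ≤ cj g D →
  (∀ l ∈ L, ∀ k ∈ Kc, l * k * l⁻¹ ∈ Kc) → (∀ l ∈ cj g L, ∀ k ∈ Kc, l * k * l⁻¹ ∈ Kc) →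
  (∀ N : Subgroup G, N ≤ R → (∀ l ∈ L, ∀ n ∈ N, l * n * l⁻¹ ∈ N) →
    (∀ l ∈ cj g L, ∀ n ∈ N, l * n * l⁻¹ ∈ N) → N ≤ Kc) →
  (∀ y ∈ L, (∀ d ∈ D, y * d * y⁻¹ * d⁻¹ ∈ Kc) → y ∈ D) →
  (∀ d ∈ D, ∀ e ∈ D, d * d ∈ Kc ∧ d * e * d⁻¹ * e⁻¹ ∈ Kc) →
  (∀ d ∈ cj g D, ∀ e ∈ cj g D, d * d ∈ Kc ∧ d * e * d⁻¹ * e⁻¹ ∈ Kc) →
  PairFacts L R D (cj g D)

/-- (N0) step (0) (helper74's `exists_maxElab_not_le`, note 3427). -/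
def PkgN0 : Prop := ∀ {G : Type u} [Group G] (S D : Subgroup G) [Finite ↥S], D ≤ S →
  ∀ P₁ P₂ : Subgroup G, (∀ h ∈ P₁, ∀ d ∈ D, h * d * h⁻¹ ∈ D) →
  (∀ h ∈ P₂, ∀ s ∈ S, h * s * h⁻¹ ∈ S) → S ≠ ⊥ → IsPGroup 2 ↥S →
  (∀ N : Subgroup G, N ≤ S → (∀ h ∈ P₁, ∀ n ∈ N, h * n * h⁻¹ ∈ N) →
    (∀ h ∈ P₂, ∀ n ∈ N, h * n * h⁻¹ ∈ N) → N = ⊥) →
  ∃ A : Subgroup G, A ≤ S ∧ Cfsg.IsElementaryAbelian 2 A ∧
    (∀ B : Subgroup G, B ≤ S → Cfsg.IsElementaryAbelian 2 B → Nat.card ↥B ≤ Nat.card ↥A) ∧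
    ¬ A ≤ D

/-- (N3) step (3). -/
def PkgN3 : Prop := ∀ {G : Type u} [Group G] (L R D D₂ D₃ B : Subgroup G),
  LAmal L R D → B ≤ D → (∀ b ∈ B, b * b = 1) →
  (∀ B' : Subgroup G, B' ≤ R → (∀ b ∈ B', b * b = 1) → B' ≤ D₂ ∨ B' ≤ D₃) →
  (∀ y ∈ L, cj y R ≠ R → ∀ h ∈ L, (D ⊓ D₂) ⊓ cj y (D ⊓ D₂) ≤ cj h (D ⊓ D₂)) →
  (∀ y ∈ L, cj y R ≠ R → ∀ h ∈ L, (D ⊓ D₃) ⊓ cj y (D ⊓ D₃) ≤ cj h (D ⊓ D₃)) →
  (∀ h ∈ L, B ≤ cj h (D ⊓ D₂)) ∨ (∀ h ∈ L, B ≤ cj h (D ⊓ D₃))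

/-- (NJ) Lemma J (helper45's `lemJ`) for subgroups of an arbitrary group. -/
def PkgNJ : Prop := ∀ {G : Type u} [Group G] (L R D D' Kc A : Subgroup G),
  LAmal L R D → (∀ x ∈ L, (∀ v ∈ OZ D, x * v = v * x) → x ∈ D) →
  D' ≤ R → (∀ s ∈ R, ∀ d ∈ D', s * d * s⁻¹ ∈ D') → Nat.card ↥R = 2 * Nat.card ↥D' →
  ¬ (∀ l ∈ L, ∀ m ∈ D ⊓ D', l * m * l⁻¹ ∈ D ⊓ D') →
  Kc ≤ D → Kc ≤ D' → (∀ l ∈ L, ∀ k ∈ Kc, l * k * l⁻¹ ∈ Kc) →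
  A ≤ R → Cfsg.IsElementaryAbelian 2 A →
  (∀ B : Subgroup G, B ≤ R → Cfsg.IsElementaryAbelian 2 B → Nat.card ↥B ≤ Nat.card ↥A) →
  ¬ A ≤ D → (A ⊓ D) ⊔ OZ D ≤ Kc → OZ D' ≤ OZ D

/-- (N5) step (5). -/
def PkgN5 : Prop := ∀ {G : Type u} [Group G] (H K T Q R : Subgroup G),
  NSet H K T Q R → NBasic K T Q R →
  ∀ g ∈ K, g ∉ T → ¬ OZ (cj g (Q ⊓ R)) ≤ OZ (Q ⊓ R)

/-- (PF) the pair facts for a transposition-like `g` (assembly of NF, NCJ, NO2, NC, NZ,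
helper59's `subQuot` and NP). -/
def PFStatement : Prop := ∀ (n : ℕ), Cfsg.Agent.Lib.Helper59.Amal.IHlt.{u} n →
  ∀ {G : Type u} [Group G] (H K T Q R L : Subgroup G),
  NSet H K T Q R → NBasic K T Q R → LData H T Q R L → LAmal L R (Q ⊓ R) → Nat.card ↥T = n →
  ∀ g ∈ K, g ∉ T → g * g ∈ T → PairFacts L R (Q ⊓ R) (cj g (Q ⊓ R))

def PkgPF : Prop := PkgNF.{u} → PkgNCJ.{u} → PkgNO2.{u} → PkgNC.{u} → PkgNZ.{u} → PkgNP.{u} →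
  PFStatement.{u}

/-- (NII) the Thompson-subgroup part: from the pair facts to a contradiction
(assembly of N0, N3, NJ, N5). -/
def NIIStatement : Prop := ∀ {G : Type u} [Group G] (H K T Q R L : Subgroup G),
  NSet H K T Q R → NBasic K T Q R → LData H T Q R L → LAmal L R (Q ⊓ R) →
  (∀ g ∈ K, g ∉ T → g * g ∈ T → PairFacts L R (Q ⊓ R) (cj g (Q ⊓ R))) → False

def PkgNII : Prop := PkgN0.{u} → PkgN3.{u} → PkgNJ.{u} → PkgN5.{u} → NIIStatement.{u}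

/-- The abstract form of claim (N). -/
def NCore : Prop := ∀ (n : ℕ), Cfsg.Agent.Lib.Helper59.Amal.IHlt.{u} n →
  ∀ {G : Type u} [Group G] (H K T Q R : Subgroup G), NSet H K T Q R → Nat.card ↥T = n → False

/-- Claim (N) in the frozen form (the shape of helper34's note 3362). -/
def NDClaim : Prop := ∀ (n : ℕ), Cfsg.Agent.Lib.Helper59.Amal.IHlt.{u} n →
  ∀ (G : Type u) [Group G] (P₁ P₂ : Subgroup G) [Finite ↥P₁] [Finite ↥P₂] (_hgen : P₁ ⊔ P₂ = ⊤)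
    (T : Subgroup G) (_hT : T = P₁ ⊓ P₂)
    (_h₁ : ∀ P ∈ ({P₁, P₂} : Set (Subgroup G)),
      P ⊓ Subgroup.centralizer (Cfsg.pCoreOf 2 P : Set G) ≤ Cfsg.pCoreOf 2 P)
    (_h₂ : ∀ P ∈ ({P₁, P₂} : Set (Subgroup G)), ∃ S : Sylow 2 ↥P, (S : Subgroup ↥P) = T.subgroupOf P)
    (_h₃ : ∀ N : Subgroup G, N.Normal → N ≤ T → N = ⊥)
    (_h₄ : ∀ P ∈ ({P₁, P₂} : Set (Subgroup G)), Nonempty (↥P ⧸ Cfsg.pCore 2 ↥P ≃* Equiv.Perm (Fin 3)))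
    (_h₅ : ∀ P ∈ ({P₁, P₂} : Set (Subgroup G)),
      ¬ P ≤ Subgroup.centralizer (Cfsg.omegaOne 2 (T ⊓ Subgroup.centralizer (T : Set G)) : Set G)),
    Nat.card ↥T = n →
    ¬ (∀ h ∈ P₁, ∀ d ∈ Cfsg.pCoreOf 2 P₁ ⊓ Cfsg.pCoreOf 2 P₂,
        h * d * h⁻¹ ∈ Cfsg.pCoreOf 2 P₁ ⊓ Cfsg.pCoreOf 2 P₂)

/-- (NTOP) from the abstract form to the frozen form (helper34's bridge `lamal_one`,
`hcore_of_frozen`). -/
def PkgNTOP : Prop := NCore.{u} → NDClaim.{u}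

end Cfsg.Agent.Lib.Helper12.NClaim
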