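/-
Claim (N) of S2858: assembly of the packages of `Defs.lean`.
-/
import Cfsg.Agent.Lib.Helper12.NClaim.Defs

set_option autoImplicit false

namespace Cfsg.Agent.Lib.Helper12.NClaim

open Cfsg.Agent.Lib.Helper71.Sym

universe u

/-- The abstract claim (N) from the packages. -/
theorem nCore_of (hNB : PkgNB.{u}) (hNL : PkgNL.{u}) (hNLA : PkgNLA.{u})
    (hPF : PFStatement.{u}) (hNII : NIIStatement.{u}) : NCore.{u} := by
  intro n IH G _ H K T Q R hN hn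
  have hB : NBasic K T Q R := hNB H K T Q R hN
  obtain ⟨L, hL⟩ := hNL H T Q R hN.hH hN.hK.hQT
    (fun t ht s hs => hN.hK.hQn t (hN.hK.hTH ht) s hs) hN.hK.hTQ hB.hQR.symm hN.hD
  have hLA : LAmal L R (Q ⊓ R) := hNLA H K T Q R L hN hB hL
  exact hNII H K T Q R L hN hB hL hLA
    (fun g hg hgT hg2 => hPF n IH H K T Q R L hN hB hL hLA hn g hg hgT hg2)

/-- Claim (N) in the frozen form from all the packages. -/
theorem ndClaim_of (hNB : PkgNB.{u}) (hNL : PkgNL.{u}) (hNLA : PkgNLA.{u}) (hNF : PkgNF.{u})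
    (hNCJ : PkgNCJ.{u}) (hNO2 : PkgNO2.{u}) (hNC : PkgNC.{u}) (hNZ : PkgNZ.{u})
    (hNP : PkgNP.{u}) (hN0 : PkgN0.{u}) (hN3 : PkgN3.{u}) (hNJ : PkgNJ.{u}) (hN5 : PkgN5.{u})
    (hPF : PkgPF.{u}) (hNII : PkgNII.{u}) (hNTOP : PkgNTOP.{u}) : NDClaim.{u} :=
  hNTOP (nCore_of hNB hNL hNLA (hPF hNF hNCJ hNO2 hNC hNZ hNP) (hNII hN0 hN3 hNJ hN5))

end Cfsg.Agent.Lib.Helper12.NClaim
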